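import Mathlib
import Groth.Agent.AssPtX.Noeth
import Groth.Agent.RegLoc6.Basic
import Groth.Agent.QFUnib.Basic

/-!
# Flatness over regular bases of dimension at most one, by associated points
-/

universe u

open CategoryTheory AlgebraicGeometry TopologicalSpace

set_option backward.isDefEq.respectTransparency false
set_option backward.isDefEq.respectTransparency.types false

namespace Groth.Agent.H4Ass

open Groth.Agent

variable {X Y : Scheme.{u}}

theorem isAssPoint_structureModule_iff (x : X) :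
    Curv2.IsAssPoint (Coh.structureModule X) x ↔
      IsAssociatedPrime (IsLocalRing.maximalIdeal (X.presheaf.stalk x)) (X.presheaf.stalk x) := by
  obtain ⟨V, hV, hxV, -⟩ := exists_isAffineOpen_mem_and_subset (x := x) (U := ⊤) trivial
  letI := QCoh.stalkAlg (X := X) hxV
  haveI := QCoh.isLocalization_stalk' hV hxV
  haveI : IsLocalizedModule (hV.primeIdealOf ⟨x, hxV⟩).asIdeal.primeCompl
      (Algebra.linearMap Γ(X, V) (X.presheaf.stalk x)) := inferInstance
  have h1 := WeakAss.mem_weakAss_iff_map (hV.primeIdealOf ⟨x, hxV⟩).asIdeal.primeCompl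
    (R' := X.presheaf.stalk x) (Algebra.linearMap Γ(X, V) (X.presheaf.stalk x))
    (p := (hV.primeIdealOf ⟨x, hxV⟩).asIdeal) (Set.disjoint_left.2 fun _ h h' => h h')
  rw [IsLocalization.AtPrime.map_eq_maximalIdeal] at h1
  rw [AssPtX.isAssPoint_iff, AssPtX.isWeakAssPoint_iff_sections QCoh.isQCoh_structureModule hV hxV]
  refine (h1.trans ?_ : _)
  rw [WeakAss.mem_weakAss_iff]
  constructor
  · rintro ⟨m, hm⟩
    exact ⟨inferInstance, m, by
      rw [AssPtX.colon_bot_singleton]; exact ((AssPtX.radical_eq_maximalIdeal_iff _).2 hm).symm⟩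
  · rintro ⟨-, m, hm⟩
    exact ⟨m, (AssPtX.radical_eq_maximalIdeal_iff _).1 (by rw [← AssPtX.colon_bot_singleton]; exact hm.symm)⟩

theorem not_mem_nonZeroDivisors_of_isAssPoint {x : X} (hx : Curv2.IsAssPoint (Coh.structureModule X) x)
    {g : X.presheaf.stalk x} (hg : g ∈ IsLocalRing.maximalIdeal (X.presheaf.stalk x)) :
    g ∉ nonZeroDivisors (X.presheaf.stalk x) := by
  intro hn
  obtain ⟨hp, m, hm⟩ := (isAssPoint_structureModule_iff x).mp hx
  rw [hm] at hg
  obtain ⟨n, hn'⟩ := hg
  have hgm : g ^ n * m = 0 := by simpa using Submodule.mem_colon_singleton.mp hn'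
  have hm0 : m = 0 := (pow_mem hn n).1 _ hgm
  refine hp.ne_top ?_
  rw [hm, hm0, Ideal.radical_eq_top]
  exact top_unique fun r _ => Submodule.mem_colon_singleton.mpr (by simp)

/-- A zero divisor of a local ring becomes a non-unit at an associated generalization. -/
theorem exists_assPoint_of_not_regular [IsLocallyNoetherian X] (x : X) {g : X.presheaf.stalk x}
    (hg : g ∉ nonZeroDivisors (X.presheaf.stalk x)) :
    ∃ (y : X) (h : y ⤳ x), Curv2.IsAssPoint (Coh.structureModule X) y ∧
      ¬ IsUnit (X.presheaf.stalkSpecializes h g) := by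
  obtain ⟨V, hV, hxV, -⟩ := exists_isAffineOpen_mem_and_subset (x := x) (U := ⊤) trivial
  haveI : IsNoetherianRing Γ(X, V) := IsLocallyNoetherian.component_noetherian ⟨_, hV⟩
  letI := QCoh.stalkAlg (X := X) hxV
  haveI := QCoh.isLocalization_stalk' hV hxV
  haveI : IsNoetherianRing (X.presheaf.stalk x) :=
    IsLocalization.isNoetherianRing (hV.primeIdealOf ⟨x, hxV⟩).asIdeal.primeCompl _ inferInstance
  haveI : IsLocalizedModule (hV.primeIdealOf ⟨x, hxV⟩).asIdeal.primeCompl
      (Algebra.linearMap Γ(X, V) (X.presheaf.stalk x)) := inferInstance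
  have hz : g ∈ ⋃ P ∈ associatedPrimes (X.presheaf.stalk x) (X.presheaf.stalk x), (P : Set (X.presheaf.stalk x)) := by
    rw [biUnion_associatedPrimes_eq_compl_nonZeroDivisors]; exact hg
  obtain ⟨P, hP, hgP⟩ := Set.mem_iUnion₂.mp hz
  have hp := Module.associatedPrimes.comap_mem_associatedPrimes_of_mem_associatedPrimes_of_isLocalizedModule_of_fg
    (hV.primeIdealOf ⟨x, hxV⟩).asIdeal.primeCompl (Algebra.linearMap Γ(X, V) (X.presheaf.stalk x)) P hP
    (IsNoetherian.noetherian _)
  let p := P.comap (algebraMap Γ(X, V) (X.presheaf.stalk x))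
  have hw : p ∈ FlatCA.weakAss Γ(X, V) Γ(X, V) := by
    obtain ⟨hpr, m, hm⟩ := hp
    rw [AssPtX.colon_bot_singleton] at hm
    refine WeakAss.mem_weakAss_iff.mpr ⟨m, ⟨hpr, (Ideal.le_radical.trans hm.ge :)⟩, fun q hq _ => ?_⟩
    exact (hm.le.trans (hq.1.radical_le_iff.2 hq.2) :)
  obtain ⟨y, hyV, hyp, hy⟩ :=
    AssPtX.exists_isWeakAssPoint (F := Coh.structureModule X) QCoh.isQCoh_structureModule hV (p := p) hw
  have hle : (hV.primeIdealOf ⟨y, hyV⟩).asIdeal ≤ (hV.primeIdealOf ⟨x, hxV⟩).asIdeal := by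
    rw [hyp, ← IsLocalization.AtPrime.comap_maximalIdeal (X.presheaf.stalk x) (hV.primeIdealOf ⟨x, hxV⟩).asIdeal]
    exact Ideal.comap_mono (IsLocalRing.le_maximalIdeal hP.isPrime.ne_top)
  refine ⟨y, (AssPtX.primeIdealOf_le_iff hV hyV hxV).1 hle, AssPtX.isAssPoint_iff.mpr hy, fun hu => ?_⟩
  obtain ⟨⟨a, ⟨s, hs⟩⟩, has⟩ := IsLocalization.surj (hV.primeIdealOf ⟨x, hxV⟩).asIdeal.primeCompl g
  have hap : a ∈ p := by
    show algebraMap Γ(X, V) (X.presheaf.stalk x) a ∈ P
    rw [← has]
    exact P.mul_mem_right _ hgP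
  have hspec := congr(X.presheaf.stalkSpecializes ((AssPtX.primeIdealOf_le_iff hV hyV hxV).1 hle) $has)
  change X.presheaf.stalkSpecializes _ (g * X.presheaf.germ V x hxV s) =
    X.presheaf.stalkSpecializes _ (X.presheaf.germ V x hxV a) at hspec
  rw [map_mul, TopCat.Presheaf.germ_stalkSpecializes_apply, TopCat.Presheaf.germ_stalkSpecializes_apply] at hspec
  have hus : IsUnit (X.presheaf.germ V y hyV s) := (X.mem_basicOpen s y hyV).1
    ((QCoh.mem_basicOpen_iff_notMem hV hyV s).2 fun h => hs (hle h))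
  have hua : IsUnit (X.presheaf.germ V y hyV a) := hspec ▸ hu.mul hus
  exact (QCoh.mem_basicOpen_iff_notMem hV hyV a).1 ((X.mem_basicOpen a y hyV).2 hua) (hyp ▸ hap)

theorem isPrincipalIdealRing_of_regular (R : Type u) [CommRing R] [IsRegularLocalRing R]
    (h : ringKrullDim R ≤ 1) : IsPrincipalIdealRing R := by
  haveI := RegLoc6.isDomain_of_isRegularLocalRing R
  have h1 := IsRegularLocalRing.spanFinrank_maximalIdeal (R := R)
  have h2 : (IsLocalRing.maximalIdeal R).spanFinrank ≤ 1 := by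
    rw [← h1] at h
    exact_mod_cast h
  have hpr : (IsLocalRing.maximalIdeal R).IsPrincipal := by
    rcases Nat.le_one_iff_eq_zero_or_eq_one.mp h2 with h3 | h3
    · rw [(Submodule.spanFinrank_eq_zero_iff_eq_bot (IsNoetherian.noetherian _)).mp h3]
      exact bot_isPrincipal
    · exact ((Submodule.spanFinrank_eq_one_iff _).mp h3).1
  exact ((tfae_of_isNoetherianRing_of_isLocalRing_of_isDomain R).out 0 4).mpr hpr

/-- Flatness from the position of the associated points. -/
theorem flat_of_assPoints (f : X ⟶ Y) [IsLocallyNoetherian X]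
    (hreg : ∀ x : X, IsRegularLocalRing (Y.presheaf.stalk (f x)))
    (hdim : ∀ x : X, ringKrullDim (Y.presheaf.stalk (f x)) ≤ 1)
    (hass : ∀ x : X, Curv2.IsAssPoint (Coh.structureModule X) x → IsField (Y.presheaf.stalk (f x))) :
    Flat f := by
  refine Flat.of_stalkMap f fun x => ?_
  haveI := hreg x
  haveI := RegLoc6.isDomain_of_isRegularLocalRing (Y.presheaf.stalk (f x))
  haveI := isPrincipalIdealRing_of_regular (Y.presheaf.stalk (f x)) (hdim x)
  algebraize [(f.stalkMap x).hom]
  show Module.Flat _ _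
  rw [Module.Flat.flat_iff_torsion_eq_bot_of_isBezout, eq_bot_iff]
  rintro t ⟨⟨r, hr⟩, hrt⟩
  rw [Submonoid.mk_smul, Algebra.smul_def] at hrt
  by_contra ht
  have hz : f.stalkMap x r ∉ nonZeroDivisors (X.presheaf.stalk x) := fun hn => ht (hn.1 _ hrt)
  obtain ⟨y, hy, hya, hyu⟩ := exists_assPoint_of_not_regular x hz
  refine hyu ?_
  rw [← Scheme.Hom.stalkSpecializes_stalkMap_apply f y x hy]
  refine IsUnit.map _ ?_
  obtain ⟨V, hV, hxV, -⟩ := exists_isAffineOpen_mem_and_subset (x := f x) (U := ⊤) trivial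
  have hinj : Function.Injective (Y.presheaf.stalkSpecializes (hy.map f.continuous)) := QFUnib.stalkSpecializes_injective _
  let := (hass y hya).toField
  exact Ne.isUnit (a := Y.presheaf.stalkSpecializes (hy.map f.continuous) r)
    fun h => nonZeroDivisors.ne_zero hr (hinj (h.trans (map_zero _).symm))

end Groth.Agent.H4Ass
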